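import Mathlib
import Cfsg.Agent.Lib.Core.Coprime

/-!
Owner: helper2. S1169, gap G3: an irreducible group on an elementary abelian 2-group `A = K × B` such that
the conjugates of `K` meet trivially, the stabiliser of `K` fixes `B` and the centraliser of `K` acts
regularly on the non-identity points of `B`: either `|A| ≤ 8`, or `K` and `B` are the only conjugates of `K`.
-/

set_option autoImplicit false
set_option linter.unusedSectionVars false

namespace CfsgLib.DisjointKernels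

open Subgroup

variable {G : Type*} [Group G]

/-- The conjugate `g X g⁻¹`. -/
def cj (g : G) (X : Subgroup G) : Subgroup G := X.map (MulAut.conj g).toMonoidHom

theorem mem_cj {g x : G} {X : Subgroup G} : x ∈ cj g X ↔ g⁻¹ * x * g ∈ X := by
  constructor
  · rintro ⟨y, hy, rfl⟩
    show g⁻¹ * (g * y * g⁻¹) * g ∈ X
    simpa [mul_assoc] using hy
  · exact fun hx => ⟨_, hx, by show g * (g⁻¹ * x * g) * g⁻¹ = x; group⟩

theorem conj_mem_cj {g x : G} {X : Subgroup G} (hx : x ∈ X) : g * x * g⁻¹ ∈ cj g X := ⟨x, hx, rfl⟩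

theorem cj_mul (g h : G) (X : Subgroup G) : cj (g * h) X = cj g (cj h X) := by
  ext x; simp [mem_cj, mul_assoc]

@[simp] theorem cj_one (X : Subgroup G) : cj 1 X = X := by ext x; simp [mem_cj]

theorem cj_inv_cj (g : G) (X : Subgroup G) : cj g⁻¹ (cj g X) = X := by rw [← cj_mul]; simp

theorem cj_cj_inv (g : G) (X : Subgroup G) : cj g (cj g⁻¹ X) = X := by rw [← cj_mul]; simp

theorem card_cj (g : G) (X : Subgroup G) : Nat.card (cj g X) = Nat.card X :=
  (Nat.card_congr (Subgroup.equivMapOfInjective X (MulAut.conj g).toMonoidHom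
    (MulAut.conj g).injective).toEquiv).symm

theorem cj_mono {g : G} {X Y : Subgroup G} (h : X ≤ Y) : cj g X ≤ cj g Y := Subgroup.map_mono h

theorem cj_inf (g : G) (X Y : Subgroup G) : cj g (X ⊓ Y) = cj g X ⊓ cj g Y :=
  Subgroup.map_inf _ _ _ (MulAut.conj g).injective

theorem cj_eq_self {g : G} {X : Subgroup G} (h : ∀ x ∈ X, g * x * g⁻¹ = x) : cj g X = X := by
  refine le_antisymm ?_ fun x hx => ⟨x, hx, h x hx⟩
  rintro _ ⟨x, hx, rfl⟩
  show g * x * g⁻¹ ∈ X
  rwa [h x hx]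

theorem card_nonidentity [Finite G] (X : Subgroup G) :
    Nat.card {x : G // x ∈ X ∧ x ≠ 1} = Nat.card X - 1 := by
  have e : {x : G | x ∈ X ∧ x ≠ 1} = (X : Set G) \ {1} := by ext x; simp
  show Nat.card ↥({x : G | x ∈ X ∧ x ≠ 1}) = _
  rw [Nat.card_coe_set_eq, e, Set.ncard_sdiff_singleton_of_mem X.one_mem, ← Nat.card_coe_set_eq]
  rfl

/-- The hypotheses. -/
structure Config (A N K B : Subgroup G) : Prop where
  sq : ∀ a ∈ A, a * a = 1
  normA : N ≤ normalizer (A : Set G)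
  sup : K ⊔ B = A
  inf : K ⊓ B = ⊥
  K_ne : K ≠ ⊥
  B_ne : B ≠ ⊥
  stab : ∀ g ∈ N, cj g K = K → cj g B = B
  disj : ∀ g ∈ N, cj g K ≠ K → cj g K ⊓ K = ⊥
  homology : ∀ b ∈ B, b ≠ 1 → ∀ b' ∈ B, b' ≠ 1 → ∃ h ∈ N, cj h B = B ∧
    (∀ k ∈ K, h * k * h⁻¹ = k) ∧ h * b * h⁻¹ = b' ∧
    ((∃ c ∈ B, c ≠ 1 ∧ h * c * h⁻¹ = c) → ∀ c ∈ B, h * c * h⁻¹ = c)
  irred : ∀ X ≤ A, (∀ g ∈ N, cj g X = X) → X = ⊥ ∨ X = A

variable [Finite G] {A N K B : Subgroup G}

/-- A conjugate of `K`. -/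
def Mem (N K X : Subgroup G) : Prop := ∃ g ∈ N, cj g K = X

theorem mem_self : Mem N K K := ⟨1, one_mem _, cj_one K⟩

theorem Mem.cj {X : Subgroup G} (hX : Mem N K X) {g : G} (hg : g ∈ N) :
    Mem N K (DisjointKernels.cj g X) := by
  obtain ⟨k, hk, rfl⟩ := hX
  exact ⟨g * k, mul_mem hg hk, cj_mul g k K⟩

theorem Mem.card {X : Subgroup G} (hX : Mem N K X) : Nat.card X = Nat.card K := by
  obtain ⟨k, -, rfl⟩ := hX
  exact card_cj k K

variable (h : Config A N K B)
include h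

theorem Config.K_le : K ≤ A := h.sup ▸ le_sup_left

theorem Config.B_le : B ≤ A := h.sup ▸ le_sup_right

theorem Config.comm {a b : G} (ha : a ∈ A) (hb : b ∈ A) : a * b = b * a := by
  have h1 := h.sq _ (mul_mem ha hb)
  calc a * b = a * (a * b * (a * b)) * b := by rw [h1, mul_one]
    _ = a * a * (b * a) * (b * b) := by group
    _ = b * a := by rw [h.sq a ha, h.sq b hb, one_mul, mul_one]

theorem Config.decomp {a : G} (ha : a ∈ A) : ∃ k ∈ K, ∃ b ∈ B, a = k * b := by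
  have hn : K ≤ normalizer (B : Set G) := fun k hk => mem_normalizer_iff.2 fun y => by
    constructor
    · intro hy
      rwa [h.comm (h.K_le hk) (h.B_le hy), mul_inv_cancel_right]
    · intro hy
      have h1 : y = k⁻¹ * (k * y * k⁻¹) * k := by group
      rw [h1, h.comm (inv_mem (h.K_le hk)) (h.B_le hy), inv_mul_cancel_right]
      exact hy
  exact (CfsgLib.Core.mem_sup_iff_mul hn).1 (h.sup.symm ▸ ha)

theorem Config.unique {k k' b b' : G} (hk : k ∈ K) (hk' : k' ∈ K) (hb : b ∈ B) (hb' : b' ∈ B)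
    (e : k * b = k' * b') : k = k' ∧ b = b' := by
  have h1 : k'⁻¹ * k = b' * b⁻¹ := by
    calc k'⁻¹ * k = k'⁻¹ * (k * b) * b⁻¹ := by group
      _ = b' * b⁻¹ := by rw [e]; group
  have h2 : k'⁻¹ * k ∈ K ⊓ B :=
    ⟨K.mul_mem (K.inv_mem hk') hk, h1 ▸ B.mul_mem hb' (B.inv_mem hb)⟩
  rw [h.inf, mem_bot] at h2
  have h3 : k = k' := (inv_mul_eq_one.1 h2).symm
  exact ⟨h3, mul_left_cancel (h3 ▸ e)⟩

theorem Config.cj_A {g : G} (hg : g ∈ N) : cj g A = A := by
  ext x
  rw [mem_cj, mem_normalizer_iff''.1 (h.normA hg) x]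

theorem Config.le_A {X : Subgroup G} (hX : Mem N K X) : X ≤ A := by
  obtain ⟨g, hg, rfl⟩ := hX
  exact (cj_mono h.K_le).trans (h.cj_A hg).le

theorem Config.eq_of_common {X Y : Subgroup G} (hX : Mem N K X) (hY : Mem N K Y) {x : G}
    (hxX : x ∈ X) (hxY : x ∈ Y) (hx : x ≠ 1) : X = Y := by
  obtain ⟨g, hg, rfl⟩ := hX
  obtain ⟨k, hk, rfl⟩ := hY
  by_contra hne
  have h1 : cj (k⁻¹ * g) K ≠ K := fun e => hne (by
    rw [cj_mul] at e
    conv_rhs => rw [← e, cj_cj_inv])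
  have h2 := h.disj _ (mul_mem (inv_mem hk) hg) h1
  have h3 : k⁻¹ * x * k ∈ cj (k⁻¹ * g) K ⊓ K :=
    ⟨by rw [cj_mul]; exact mem_cj.2 (by simpa [mul_assoc] using hxX), mem_cj.1 hxY⟩
  rw [h2, mem_bot] at h3
  refine hx ?_
  calc x = k * (k⁻¹ * x * k) * k⁻¹ := by group
    _ = 1 := by rw [h3]; group

/-- A conjugate of `K` other than `K` lies in `B` or meets it trivially. -/
theorem Config.le_or_disjoint {X : Subgroup G} (hX : Mem N K X) (hne : X ≠ K) :
    X ≤ B ∨ X ⊓ B = ⊥ := by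
  classical
  by_contra hcon
  push Not at hcon
  obtain ⟨x, hx, hxB⟩ := SetLike.not_le_iff_exists.1 hcon.1
  obtain ⟨⟨c, hc⟩, hc1⟩ := ne_bot_iff_exists_ne_one.1 hcon.2
  replace hc1 : c ≠ 1 := fun e => hc1 (Subtype.ext e)
  obtain ⟨k, hk, b, hb, rfl⟩ := h.decomp (h.le_A hX hx)
  have hk1 : k ≠ 1 := fun e => hxB (by rw [e, one_mul]; exact hb)
  have hkX : k ∉ X := fun hh => hne (h.eq_of_common hX mem_self hh hk hk1)
  have hb1 : b ≠ 1 := fun e => hkX (by rwa [e, mul_one] at hx)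
  have hbc : b * c ≠ 1 := fun e => hkX (by
    have h1 := mul_mem hx hc.1
    rwa [mul_assoc, e, mul_one] at h1)
  obtain ⟨g, hg, hgB, hgK, hgb, hfpf⟩ := h.homology b hb hb1 (b * c) (mul_mem hb hc.2) hbc
  have hgx : g * (k * b) * g⁻¹ = k * b * c := by
    calc g * (k * b) * g⁻¹ = g * k * g⁻¹ * (g * b * g⁻¹) := by group
      _ = k * b * c := by rw [hgK k hk, hgb, mul_assoc]
  have hgX : cj g X = X := h.eq_of_common (hX.cj hg) hX (x := k * b * c) (hgx ▸ conj_mem_cj hx)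
    (mul_mem hx hc.1) fun e => hxB (by
      rw [mul_eq_one_iff_eq_inv.1 e]; exact inv_mem hc.2)
  have hfree : ∀ y ∈ B, g * y * g⁻¹ = y → y = 1 := fun y hy e => by
    by_contra hy1
    have h1 := hfpf ⟨y, hy, hy1, e⟩ b hb
    rw [hgb, mul_eq_left] at h1
    exact hc1 h1
  -- `y ↦ [g, y]` is onto `X ∩ B`
  let φ : ↥(X ⊓ B) → ↥(X ⊓ B) := fun y => ⟨(y : G) * (g * y * g⁻¹),
    (X ⊓ B).mul_mem y.2 ⟨hgX.le (conj_mem_cj y.2.1), hgB.le (conj_mem_cj y.2.2)⟩⟩
  have hφ : Function.Injective φ := by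
    intro y z e
    have e1 : (y : G) * (g * y * g⁻¹) = z * (g * z * g⁻¹) := congrArg Subtype.val e
    have hyA := h.B_le y.2.2
    have hzA := h.B_le z.2.2
    have hgyA : g * (y : G) * g⁻¹ ∈ A := h.B_le (hgB.le (conj_mem_cj y.2.2))
    have hgzA : g * (z : G) * g⁻¹ ∈ A := h.B_le (hgB.le (conj_mem_cj z.2.2))
    have h2 := hfree ((z : G) * y) (mul_mem z.2.2 y.2.2) (by
      calc g * ((z : G) * y) * g⁻¹ = g * z * g⁻¹ * (g * y * g⁻¹) := by group
        _ = z * z * (g * z * g⁻¹) * (g * y * g⁻¹) := by rw [h.sq _ hzA, one_mul]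
        _ = z * ((z : G) * (g * z * g⁻¹)) * (g * y * g⁻¹) := by group
        _ = z * y * ((g * y * g⁻¹) * (g * y * g⁻¹)) := by rw [← e1]; group
        _ = z * y := by rw [h.sq _ hgyA, mul_one])
    refine Subtype.ext ?_
    calc (y : G) = z * z * y := by rw [h.sq _ hzA, one_mul]
      _ = z * ((z : G) * y) := by group
      _ = z := by rw [h2, mul_one]
  obtain ⟨⟨y, hy⟩, hyc⟩ := Finite.surjective_of_injective hφ ⟨c, hc⟩
  have hyc' : y * (g * y * g⁻¹) = c := congrArg Subtype.val hyc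
  have hyA := h.B_le hy.2
  have hbA := h.B_le hb
  have hgy : g * y * g⁻¹ = y * c := by
    calc g * y * g⁻¹ = y * y * (g * y * g⁻¹) := by rw [h.sq y hyA, one_mul]
      _ = y * c := by rw [mul_assoc, hyc']
  have h3 := hfree (b * y) (mul_mem hb hy.2) (by
    calc g * (b * y) * g⁻¹ = g * b * g⁻¹ * (g * y * g⁻¹) := by group
      _ = b * c * (y * c) := by rw [hgb, hgy]
      _ = b * (c * y) * c := by group
      _ = b * (y * c) * c := by rw [h.comm (h.B_le hc.2) hyA]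
      _ = b * y * (c * c) := by group
      _ = b * y := by rw [h.sq c (h.B_le hc.2), mul_one])
  refine hkX ?_
  have h4 := mul_mem hx hy.1
  rwa [mul_assoc, h3, mul_one] at h4

/-- A conjugate of `K` inside `B`. -/
def Out (_ : Config A N K B) (X : Subgroup G) : Prop := Mem N K X ∧ X ≤ B

/-- A conjugate of `K` meeting `K` and `B` trivially. -/
def Graph (_ : Config A N K B) (X : Subgroup G) : Prop := Mem N K X ∧ X ≠ K ∧ X ⊓ B = ⊥

theorem Config.out_ne_K {X : Subgroup G} (hX : Out h X) : X ≠ K := fun e =>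
  h.K_ne (by rw [← h.inf, inf_eq_left.2 (e ▸ hX.2)])

theorem Config.exists_ne_one {X : Subgroup G} (hX : Mem N K X) : ∃ x ∈ X, x ≠ 1 := by
  obtain ⟨g, -, rfl⟩ := hX
  obtain ⟨⟨k, hk⟩, hk1⟩ := ne_bot_iff_exists_ne_one.1 h.K_ne
  refine ⟨_, conj_mem_cj hk, fun e => hk1 (Subtype.ext ?_)⟩
  calc k = g⁻¹ * (g * k * g⁻¹) * g := by group
    _ = 1 := by rw [e]; group

/-- A stabiliser of `K` moves one conjugate inside `B` onto a prescribed one. -/
theorem Config.out_trans {X Y : Subgroup G} (hX : Out h X) (hY : Out h Y) :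
    ∃ g ∈ N, cj g K = K ∧ cj g X = Y := by
  obtain ⟨x, hx, hx1⟩ := h.exists_ne_one hX.1
  obtain ⟨y, hy, hy1⟩ := h.exists_ne_one hY.1
  obtain ⟨g, hg, -, hgK, hgx, -⟩ := h.homology x (hX.2 hx) hx1 y (hY.2 hy) hy1
  exact ⟨g, hg, cj_eq_self hgK, h.eq_of_common (hX.1.cj hg) hY.1 (hgx ▸ conj_mem_cj hx) hy hy1⟩

theorem Config.out_cover {X : Subgroup G} (hX : Out h X) {b : G} (hb : b ∈ B) (hb1 : b ≠ 1) :
    ∃ Y, Out h Y ∧ b ∈ Y := by
  obtain ⟨x, hx, hx1⟩ := h.exists_ne_one hX.1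
  obtain ⟨g, hg, hgB, -, hgx, -⟩ := h.homology x (hX.2 hx) hx1 b hb hb1
  exact ⟨cj g X, ⟨hX.1.cj hg, (cj_mono hX.2).trans hgB.le⟩, hgx ▸ conj_mem_cj hx⟩

theorem Config.graph_point {X : Subgroup G} (hX : Graph h X) {k : G} (hk : k ∈ K) :
    ∃ b ∈ B, k * b ∈ X := by
  classical
  have hd : ∀ x : X, ∃ kb : K × B, (x : G) = kb.1 * kb.2 := fun x => by
    obtain ⟨k, hk, b, hb, e⟩ := h.decomp (h.le_A hX.1 x.2)
    exact ⟨(⟨k, hk⟩, ⟨b, hb⟩), e⟩
  choose f hf using hd
  have hinj : Function.Injective fun x => (f x).1 := by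
    intro x y e
    have e' : ((f x).1 : G) = (f y).1 := congrArg Subtype.val e
    have h1 : (x : G)⁻¹ * y ∈ X ⊓ B := ⟨X.mul_mem (X.inv_mem x.2) y.2, by
      rw [hf x, hf y, e', mul_inv_rev, show ((f x).2 : G)⁻¹ * ((f y).1 : G)⁻¹ * ((f y).1 * (f y).2) =
        ((f x).2 : G)⁻¹ * (f y).2 by group]
      exact B.mul_mem (B.inv_mem (f x).2.2) (f y).2.2⟩
    rw [hX.2.2, mem_bot, inv_mul_eq_one] at h1
    exact Subtype.ext h1
  obtain ⟨x, hx⟩ := ((Nat.bijective_iff_injective_and_card _).2 ⟨hinj, hX.1.card⟩).2 ⟨k, hk⟩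
  have hx' : ((f x).1 : G) = k := congrArg Subtype.val hx
  exact ⟨(f x).2, (f x).2.2, by rw [← hx', ← hf x]; exact x.2⟩

theorem Config.graph_point_ne {X : Subgroup G} (hX : Graph h X) {k b : G} (hk : k ∈ K) (hk1 : k ≠ 1)
    (hx : k * b ∈ X) : b ≠ 1 := fun e => hX.2.1 (h.eq_of_common hX.1 mem_self (by rwa [e, mul_one] at hx) hk hk1)

theorem Config.graph_move {X : Subgroup G} (hX : Graph h X) {k b b' : G} (hk : k ∈ K) (hk1 : k ≠ 1)
    (hb : b ∈ B) (hx : k * b ∈ X) (hb' : b' ∈ B) (hb1' : b' ≠ 1) :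
    ∃ g ∈ N, cj g K = K ∧ Graph h (cj g X) ∧ k * b' ∈ cj g X := by
  obtain ⟨g, hg, hgB, hgK, hgb, -⟩ := h.homology b hb (h.graph_point_ne hX hk hk1 hx) b' hb' hb1'
  refine ⟨g, hg, cj_eq_self hgK, ⟨hX.1.cj hg, fun e => hX.2.1 ?_, ?_⟩, ?_⟩
  · rw [← cj_inv_cj g X, e, ← cj_eq_self hgK, cj_inv_cj, cj_eq_self hgK]
  · conv_lhs => rw [← hgB, ← cj_inf, hX.2.2]
    exact Subgroup.map_bot _
  · have e : g * (k * b) * g⁻¹ = k * b' := by
      calc g * (k * b) * g⁻¹ = g * k * g⁻¹ * (g * b * g⁻¹) := by group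
        _ = k * b' := by rw [hgK k hk, hgb]
    exact e ▸ conj_mem_cj hx

theorem Config.graph_trans {X Y : Subgroup G} (hX : Graph h X) (hY : Graph h Y) :
    ∃ g ∈ N, cj g K = K ∧ cj g X = Y := by
  obtain ⟨⟨k, hk⟩, hk1⟩ := ne_bot_iff_exists_ne_one.1 h.K_ne
  replace hk1 : k ≠ 1 := fun e => hk1 (Subtype.ext e)
  obtain ⟨b, hb, hx⟩ := h.graph_point hX hk
  obtain ⟨b', hb', hy⟩ := h.graph_point hY hk
  obtain ⟨g, hg, hgK, hgX, hgx⟩ := h.graph_move hX hk hk1 hb hx hb' (h.graph_point_ne hY hk hk1 hy)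
  exact ⟨g, hg, hgK, h.eq_of_common hgX.1 hY.1 hgx hy fun e => hk1
    (h.unique hk (one_mem _) hb' (one_mem _) (by rw [e, one_mul])).1⟩

theorem Config.card_graph {X : Subgroup G} (hX : Graph h X) :
    Nat.card {Y // Graph h Y} = Nat.card B - 1 := by
  obtain ⟨⟨k, hk⟩, hk1⟩ := ne_bot_iff_exists_ne_one.1 h.K_ne
  replace hk1 : k ≠ 1 := fun e => hk1 (Subtype.ext e)
  obtain ⟨b₀, hb₀, hx₀⟩ := h.graph_point hX hk
  have hex : ∀ b : {b : G // b ∈ B ∧ b ≠ 1}, ∃ Y, Graph h Y ∧ k * b ∈ Y := fun b => by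
    obtain ⟨g, -, -, hg, hgx⟩ := h.graph_move hX hk hk1 hb₀ hx₀ b.2.1 b.2.2
    exact ⟨_, hg, hgx⟩
  choose f hf hmem using hex
  rw [← card_nonidentity B]
  refine (Nat.card_eq_of_bijective (fun b => (⟨f b, hf b⟩ : {Y // Graph h Y})) ⟨?_, ?_⟩).symm
  · intro b c e
    have e' : f b = f c := congrArg Subtype.val e
    have h1 : ((b : G))⁻¹ * c ∈ f b ⊓ B := ⟨by
      have := (f b).mul_mem ((f b).inv_mem (hmem b)) (e' ▸ hmem c)
      rwa [show (k * (b : G))⁻¹ * (k * c) = (b : G)⁻¹ * c by group] at this,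
      B.mul_mem (B.inv_mem b.2.1) c.2.1⟩
    rw [(hf b).2.2, mem_bot, inv_mul_eq_one] at h1
    exact Subtype.ext h1
  · rintro ⟨Y, hY⟩
    obtain ⟨b, hb, hy⟩ := h.graph_point hY hk
    refine ⟨⟨b, hb, h.graph_point_ne hY hk hk1 hy⟩, Subtype.ext (h.eq_of_common (hf _).1 hY.1
      (hmem _) hy fun e => hk1 (h.unique hk (one_mem _) hb (one_mem _) (by rw [e, one_mul])).1)⟩

theorem Config.card_out {X : Subgroup G} (hX : Out h X) :
    Nat.card {Y // Out h Y} * (Nat.card K - 1) = Nat.card B - 1 := by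
  classical
  haveI := Fintype.ofFinite {Y // Out h Y}
  have hsum : Nat.card (Σ Y : {Y // Out h Y}, {x : G // x ∈ (Y : Subgroup G) ∧ x ≠ 1}) =
      Nat.card {Y // Out h Y} * (Nat.card K - 1) := by
    rw [Nat.card_sigma, Finset.sum_congr rfl (fun (Y : {Y // Out h Y}) _ => show
      Nat.card {x : G // x ∈ (Y : Subgroup G) ∧ x ≠ 1} = Nat.card K - 1 by
        rw [card_nonidentity, Y.2.1.card])]
    simp [Nat.card_eq_fintype_card]
  rw [← hsum, ← card_nonidentity B]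
  refine Nat.card_eq_of_bijective (fun z => (⟨(z.2 : G), z.1.2.2 z.2.2.1, z.2.2.2⟩ : {b : G // b ∈ B ∧ b ≠ 1}))
    ⟨?_, ?_⟩
  · rintro ⟨⟨Y, hY⟩, x, hx⟩ ⟨⟨Z, hZ⟩, y, hy⟩ e
    obtain rfl : x = y := congrArg Subtype.val e
    obtain rfl := h.eq_of_common hY.1 hZ.1 hx.1 hy.1 hx.2
    rfl
  · rintro ⟨b, hb, hb1⟩
    obtain ⟨Y, hY, hbY⟩ := h.out_cover hX hb hb1
    exact ⟨⟨⟨Y, hY⟩, b, hbY, hb1⟩, rfl⟩

theorem Config.even_card {X : Subgroup G} (hX : X ≤ A) (hne : X ≠ ⊥) : Even (Nat.card X) := by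
  obtain ⟨x, hx1⟩ := ne_bot_iff_exists_ne_one.1 hne
  haveI : Fact (Nat.Prime 2) := ⟨Nat.prime_two⟩
  have h2 : orderOf x = 2 := orderOf_eq_prime (Subtype.ext (by
    rw [pow_two]; exact h.sq _ (hX x.2))) hx1
  exact even_iff_two_dvd.2 (h2 ▸ orderOf_dvd_natCard x)

open Classical in
/-- The complement attached to a conjugate of `K`. -/
noncomputable def bOf (_ : Config A N K B) (X : Subgroup G) : Subgroup G :=
  if hX : Mem N K X then cj hX.choose B else ⊥

theorem Config.bOf_cj {g : G} (hg : g ∈ N) : bOf h (cj g K) = cj g B := by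
  have hm : Mem N K (cj g K) := ⟨g, hg, rfl⟩
  rw [bOf, dif_pos hm]
  obtain ⟨hk, hke⟩ := hm.choose_spec
  have h1 : cj (g⁻¹ * hm.choose) K = K := by rw [cj_mul, hke, cj_inv_cj]
  have h2 := h.stab _ (mul_mem (inv_mem hg) hk) h1
  rw [cj_mul] at h2
  conv_rhs => rw [← h2, cj_cj_inv]

theorem Config.bOf_K : bOf h K = B := by
  have := h.bOf_cj (one_mem N)
  rwa [cj_one, cj_one] at this

theorem Config.bOf_conj {X : Subgroup G} (hX : Mem N K X) {g : G} (hg : g ∈ N) :
    bOf h (cj g X) = cj g (bOf h X) := by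
  obtain ⟨k, hk, rfl⟩ := hX
  rw [← cj_mul, h.bOf_cj (mul_mem hg hk), h.bOf_cj hk, cj_mul]

/-- `Y` lies in the complement of `X`. -/
def Rel (_ : Config A N K B) (X Y : {X // Mem N K X}) : Prop := (Y : Subgroup G) ≤ bOf ‹_› (X : Subgroup G)

theorem Config.rel_irrefl (X : {X // Mem N K X}) : ¬ Rel h X X := by
  obtain ⟨X, g, hg, rfl⟩ := X
  intro hh
  replace hh : cj g K ≤ bOf h (cj g K) := hh
  rw [h.bOf_cj hg] at hh
  refine h.K_ne ?_
  rw [← h.inf, inf_eq_left.2]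
  rw [← cj_inv_cj g K, ← cj_inv_cj g B]
  exact cj_mono hh

/-- The action of `N` on the conjugates of `K`. -/
def move {g : G} (hg : g ∈ N) : {X // Mem N K X} ≃ {X // Mem N K X} where
  toFun X := ⟨cj g X, X.2.cj hg⟩
  invFun X := ⟨cj g⁻¹ X, X.2.cj (inv_mem hg)⟩
  left_inv X := Subtype.ext (cj_inv_cj g _)
  right_inv X := Subtype.ext (cj_cj_inv g _)

theorem Config.rel_move {g : G} (hg : g ∈ N) (X Y : {X // Mem N K X}) :
    Rel h (move hg X) (move hg Y) ↔ Rel h X Y := by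
  show cj g (Y : Subgroup G) ≤ bOf h (cj g (X : Subgroup G)) ↔ _
  rw [h.bOf_conj X.2 hg]
  refine ⟨fun hh => ?_, fun hh => cj_mono hh⟩
  have := cj_mono (g := g⁻¹) hh
  rwa [cj_inv_cj, cj_inv_cj] at this

theorem Config.rel_K (Y : {X // Mem N K X}) :
    Rel h ⟨K, mem_self⟩ Y ↔ Out h (Y : Subgroup G) := by
  show _ ≤ bOf h K ↔ _
  rw [h.bOf_K]
  exact ⟨fun hh => ⟨Y.2, hh⟩, fun hh => hh.2⟩

/-- Every conjugate has as many predecessors as successors. -/
theorem Config.card_pred (X : {X // Mem N K X}) :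
    Nat.card {Y // Rel h Y X} = Nat.card {Y // Out h Y} ∧
      Nat.card {Y // Rel h X Y} = Nat.card {Y // Out h Y} := by
  classical
  haveI := Fintype.ofFinite {X // Mem N K X}
  set o : {X // Mem N K X} := ⟨K, mem_self⟩
  have hout : ∀ X, Nat.card {Y // Rel h X Y} = Nat.card {Y // Out h Y} := by
    rintro ⟨X, g, hg, rfl⟩
    refine (Nat.card_congr ?_).symm
    refine ((Equiv.subtypeSubtypeEquivSubtype fun {Y} (hY : Out h Y) => hY.1).symm.trans ?_)
    exact (move hg).subtypeEquiv fun Y => by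
      rw [show (⟨cj g K, g, hg, rfl⟩ : {X // Mem N K X}) = move hg o from rfl, h.rel_move hg, h.rel_K]
  have hin : ∀ X, Nat.card {Y // Rel h Y X} = Nat.card {Y // Rel h Y o} := by
    rintro ⟨X, g, hg, rfl⟩
    exact (Nat.card_congr ((move hg).subtypeEquiv fun Y => (h.rel_move hg Y o).symm)).symm
  refine ⟨?_, hout X⟩
  have h1 : Nat.card (Σ X, {Y // Rel h X Y}) = Nat.card (Σ X, {Y // Rel h Y X}) :=
    Nat.card_congr
      { toFun := fun z => ⟨z.2.1, z.1, z.2.2⟩
        invFun := fun z => ⟨z.2.1, z.1, z.2.2⟩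
        left_inv := fun z => rfl
        right_inv := fun z => rfl }
  rw [Nat.card_sigma, Nat.card_sigma, Finset.sum_congr rfl (fun Y _ => hout Y),
    Finset.sum_congr rfl (fun Y _ => hin Y), Finset.sum_const, Finset.sum_const, smul_eq_mul,
    smul_eq_mul] at h1
  rw [hin X]
  exact (Nat.eq_of_mul_eq_mul_left (Finset.card_pos.2 ⟨o, Finset.mem_univ o⟩) h1).symm

omit h in
/-- A symmetric irreflexive relation of constant odd degree lives on an even number of points. -/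
theorem even_of_regular_odd {V : Type*} [Finite V] (R : V → V → Prop) (hirr : ∀ x, ¬ R x x)
    (hsymm : ∀ x y, R x y → R y x) {t : ℕ} (ht : Odd t) (hdeg : ∀ x, Nat.card {y // R x y} = t) :
    Even (Nat.card V) := by
  classical
  haveI := Fintype.ofFinite V
  let Γ : SimpleGraph V := { Adj := R, symm := ⟨hsymm⟩, loopless := ⟨hirr⟩ }
  have hd : ∀ v, Γ.degree v = t := fun v => by
    rw [← hdeg v, ← SimpleGraph.card_neighborSet_eq_degree, Nat.card_eq_fintype_card]
    exact Fintype.card_congr (Equiv.refl _)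
  have h1 := Γ.sum_degrees_eq_twice_card_edges
  rw [Finset.sum_congr rfl (fun v _ => hd v), Finset.sum_const, smul_eq_mul, Finset.card_univ,
    ← Nat.card_eq_fintype_card] at h1
  have h2 : Even (Nat.card V * t) := ⟨_, by rw [h1, two_mul]⟩
  exact (Nat.even_mul.1 h2).resolve_right (Nat.not_even_iff_odd.2 ht)

omit h in
theorem exists_not_mem_of_card {s : Finset G} (hs : s.card < Nat.card A) : ∃ x ∈ A, x ∉ s := by
  by_contra hcon
  push Not at hcon
  have h1 : (A : Set G).ncard ≤ (s : Set G).ncard := Set.ncard_le_ncard hcon s.finite_toSet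
  rw [Set.ncard_coe_finset, ← Nat.card_coe_set_eq] at h1
  exact absurd (lt_of_lt_of_le hs h1) (lt_irrefl _)

/-- Members of order two forming a tournament. -/
theorem Config.card_le_eight (hK : Nat.card K = 2)
    (hcov : ∀ a ∈ A, a ≠ 1 → ∃ X : {X // Mem N K X}, a ∈ (X : Subgroup G))
    (htour : ∀ X Y : {X // Mem N K X}, X ≠ Y → (Rel h X Y ↔ ¬ Rel h Y X)) :
    Nat.card A ≤ 8 := by
  classical
  by_contra hlt
  push Not at hlt
  have htwo : ∀ X : {X // Mem N K X}, ∀ x ∈ (X : Subgroup G), x ≠ 1 → ∀ y ∈ (X : Subgroup G),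
      y = 1 ∨ y = x := by
    intro X x hx hx1 y hy
    by_contra hcon
    push Not at hcon
    have h1 : (({1, x, y} : Finset G) : Set G).ncard ≤ ((X : Subgroup G) : Set G).ncard :=
      Set.ncard_le_ncard (by
        intro z hz
        simp only [Finset.coe_insert, Finset.coe_singleton, Set.mem_insert_iff, Set.mem_singleton_iff] at hz
        rcases hz with rfl | rfl | rfl
        exacts [one_mem _, hx, hy]) (Set.toFinite _)
    rw [Set.ncard_coe_finset, Finset.card_eq_three.2 ⟨1, x, y, hx1.symm, hcon.1.symm, hcon.2.symm, rfl⟩,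
      ← Nat.card_coe_set_eq] at h1
    have h2 : Nat.card (X : Subgroup G) = 2 := X.2.card.trans hK
    rw [show Nat.card ↥((X : Subgroup G) : Set G) = 2 from h2] at h1
    omega
  choose M hM using hcov
  let Hy : ∀ a ∈ A, a ≠ 1 → Subgroup G := fun a ha ha1 => bOf h (M a ha ha1 : Subgroup G)
  -- membership of a point in the complement is the relation
  have hiff : ∀ a (ha : a ∈ A) (ha1 : a ≠ 1) b (hb : b ∈ A) (hb1 : b ≠ 1),
      b ∈ Hy a ha ha1 ↔ Rel h (M a ha ha1) (M b hb hb1) := by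
    intro a ha ha1 b hb hb1
    refine ⟨fun hh x hx => ?_, fun hh => hh (hM b hb hb1)⟩
    rcases htwo _ b (hM b hb hb1) hb1 x hx with rfl | rfl
    · exact one_mem _
    · exact hh
  have hswap : ∀ a (ha : a ∈ A) (ha1 : a ≠ 1) b (hb : b ∈ A) (hb1 : b ≠ 1), a ≠ b →
      (b ∈ Hy a ha ha1 ↔ a ∉ Hy b hb hb1) := by
    intro a ha ha1 b hb hb1 hab
    rw [hiff a ha ha1 b hb hb1, hiff b hb hb1 a ha ha1]
    refine htour _ _ fun e => hab ?_
    rcases htwo _ b (hM b hb hb1) hb1 a (e ▸ hM a ha ha1) with e' | e'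
    · exact absurd e' ha1
    · exact e'
  -- the complements are hyperplanes
  have hidx : ∀ X : {X // Mem N K X}, ∀ x ∈ A, ∀ y ∈ A, x ∉ bOf h (X : Subgroup G) →
      y ∉ bOf h (X : Subgroup G) → x * y ∈ bOf h (X : Subgroup G) := by
    rintro ⟨X, g, hg, rfl⟩ x hx y hy hxo hyo
    simp only [h.bOf_cj hg, mem_cj] at hxo hyo ⊢
    obtain ⟨⟨k₀, hk₀⟩, hk₁⟩ := ne_bot_iff_exists_ne_one.1 h.K_ne
    replace hk₁ : k₀ ≠ 1 := fun e => hk₁ (Subtype.ext e)
    have key : ∀ z ∈ A, g⁻¹ * z * g ∉ B → ∃ b ∈ B, g⁻¹ * z * g = k₀ * b := by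
      intro z hz hzo
      obtain ⟨k, hk, b, hb, e⟩ := h.decomp ((mem_normalizer_iff''.1 (h.normA hg) z).1 hz)
      rcases htwo ⟨K, mem_self⟩ k₀ hk₀ hk₁ k hk with rfl | rfl
      · exact absurd (by rw [e, one_mul]; exact hb) hzo
      · exact ⟨b, hb, e⟩
    obtain ⟨b, hb, e⟩ := key x hx hxo
    obtain ⟨b', hb', e'⟩ := key y hy hyo
    rw [show g⁻¹ * (x * y) * g = g⁻¹ * x * g * (g⁻¹ * y * g) by group, e, e',
      show k₀ * b * (k₀ * b') = k₀ * (b * k₀) * b' by group, h.comm (h.B_le hb) (h.K_le hk₀),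
      ← mul_assoc, h.sq k₀ (h.K_le hk₀), one_mul]
    exact mul_mem hb hb'
  let F : ∀ a ∈ A, a ≠ 1 → G → ZMod 2 := fun a ha ha1 b => if b ∈ Hy a ha ha1 then 0 else 1
  have hadd : ∀ a (ha : a ∈ A) (ha1 : a ≠ 1), ∀ x ∈ A, ∀ y ∈ A,
      F a ha ha1 (x * y) = F a ha ha1 x + F a ha ha1 y := by
    intro a ha ha1 x hx y hy
    simp only [F]
    by_cases hxi : x ∈ Hy a ha ha1 <;> by_cases hyi : y ∈ Hy a ha ha1
    · simp [hxi, hyi, mul_mem hxi hyi]
    · have : x * y ∉ Hy a ha ha1 := fun hh => hyi (by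
        have := mul_mem (inv_mem hxi) hh; rwa [inv_mul_cancel_left] at this)
      simp [hxi, hyi, this]
    · have : x * y ∉ Hy a ha ha1 := fun hh => hxi (by
        have := mul_mem hh (inv_mem hyi); rwa [mul_inv_cancel_right] at this)
      simp [hxi, hyi, this]
    · rw [if_neg hxi, if_neg hyi, if_pos (hidx _ x hx y hy hxi hyi)]; rfl
  have hflip : ∀ a (ha : a ∈ A) (ha1 : a ≠ 1) b (hb : b ∈ A) (hb1 : b ≠ 1), a ≠ b →
      F a ha ha1 b = 1 + F b hb hb1 a := by
    intro a ha ha1 b hb hb1 hab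
    simp only [F]
    have h1 := hswap a ha ha1 b hb hb1 hab
    by_cases hai : a ∈ Hy b hb hb1
    · rw [if_pos hai, if_neg (fun hh => h1.1 hh hai)]; rfl
    · rw [if_neg hai, if_pos (h1.2 hai)]; rfl
  obtain ⟨a, ha, hane⟩ := exists_not_mem_of_card (A := A) (s := {1}) (by simp; omega)
  replace hane : a ≠ 1 := fun e => hane (by simp [e])
  obtain ⟨c, hc, hcne⟩ := exists_not_mem_of_card (A := A) (s := {1, a})
    (by have := Finset.card_le_two (a := (1 : G)) (b := a); omega)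
  simp only [Finset.mem_insert, Finset.mem_singleton, not_or] at hcne
  set W : Finset G := {1, a, c, a * c} with hW
  have hWc : W.card ≤ 4 := Finset.card_le_four
  obtain ⟨b₁, hb₁, hb₁W⟩ := exists_not_mem_of_card (A := A) (s := W) (by omega)
  obtain ⟨b₂, hb₂, hb₂W⟩ := exists_not_mem_of_card (A := A) (s := W ∪ W.image (b₁ * ·)) (by
    have h1 := Finset.card_union_le W (W.image (b₁ * ·))
    have h2 := Finset.card_image_le (s := W) (f := (b₁ * ·))
    omega)
  simp only [Finset.mem_union, not_or] at hb₂W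
  have hb12 : b₁ * b₂ ∉ W := fun hh => hb₂W.2 (Finset.mem_image.2 ⟨_, hh, by
    rw [← mul_assoc, h.sq b₁ hb₁, one_mul]⟩)
  have hac : a * c ≠ 1 := fun e => hcne.2 (by
    rw [← mul_left_cancel (e.trans (h.sq a ha).symm)])
  have hsum : ∀ b ∈ A, b ∉ W →
      F a ha hane b + F c hc hcne.1 b + F (a * c) (mul_mem ha hc) hac b = 1 := by
    intro b hb hbW
    simp only [hW, Finset.mem_insert, Finset.mem_singleton, not_or] at hbW
    rw [hflip a ha hane b hb hbW.1 (Ne.symm hbW.2.1), hflip c hc hcne.1 b hb hbW.1 (Ne.symm hbW.2.2.1),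
      hflip _ _ hac b hb hbW.1 (Ne.symm hbW.2.2.2), hadd b hb hbW.1 a ha c hc]
    generalize F b hb hbW.1 a = u
    generalize F b hb hbW.1 c = v
    revert u v; decide
  have h1 := hsum b₁ hb₁ hb₁W
  have h2 := hsum b₂ hb₂ hb₂W.1
  have h3 := hsum _ (mul_mem hb₁ hb₂) hb12
  rw [hadd a ha hane b₁ hb₁ b₂ hb₂, hadd c hc hcne.1 b₁ hb₁ b₂ hb₂,
    hadd _ (mul_mem ha hc) hac b₁ hb₁ b₂ hb₂] at h3
  have h4 : (1 : ZMod 2) + 1 = 1 := by
    calc (1 : ZMod 2) + 1 = _ := (congrArg₂ (· + ·) h1 h2).symm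
      _ = _ := by ring
      _ = 1 := h3
  exact absurd h4 (by decide)

/-- The lemma. -/
theorem Config.card_le_eight_or_two :
    Nat.card A ≤ 8 ∨ (Mem N K B ∧ ∀ X, Mem N K X → X = K ∨ X = B) := by
  classical
  by_cases hgr : ∃ X, Graph h X
  swap
  · -- no conjugate outside `K` and `B`
    push Not at hgr
    right
    have hall : ∀ X, Mem N K X → X = K ∨ Out h X := by
      intro X hX
      by_cases e : X = K
      · exact Or.inl e
      · exact Or.inr ⟨hX, (h.le_or_disjoint hX e).resolve_right fun e' => hgr X ⟨hX, e, e'⟩⟩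
    have hout : ∃ Y, Out h Y := by
      by_contra hno
      push Not at hno
      have hinv : ∀ g ∈ N, cj g K = K := fun g hg =>
        (hall _ ⟨g, hg, rfl⟩).resolve_right (hno _)
      rcases h.irred K h.K_le hinv with e | e
      · exact h.K_ne e
      · exact h.B_ne (by rw [← h.inf, inf_eq_right.2 (e ▸ h.B_le)])
    obtain ⟨Y, hY⟩ := hout
    have hYB : Y = B := by
      refine le_antisymm hY.2 fun b hb => ?_
      by_contra hbY
      obtain ⟨g, hg, rfl⟩ := hY.1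
      have hother : ∀ X, Mem N K X → X ≠ cj g K → X ≤ cj g B := by
        intro X hX hne
        have h1 := (hall _ (hX.cj (inv_mem hg))).resolve_left fun e => hne (by rw [← e, cj_cj_inv])
        have := cj_mono (g := g) h1.2
        rwa [cj_cj_inv] at this
      have hb1 : b ≠ 1 := fun e => hbY (e ▸ one_mem _)
      obtain ⟨y, hy, hy1⟩ := h.exists_ne_one hY.1
      have hyb : y * b ∉ cj g K := fun hh => hbY (by
        have := mul_mem (inv_mem hy) hh; rwa [inv_mul_cancel_left] at this)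
      have hyb1 : y * b ≠ 1 := fun e => hyb (e ▸ one_mem _)
      have key : ∀ z ∈ B, z ≠ 1 → z ∉ cj g K → z ∈ cj g B := by
        intro z hz hz1 hzY
        obtain ⟨Z, hZ, hzZ⟩ := h.out_cover hY hz hz1
        exact hother Z hZ.1 (fun e => hzY (e ▸ hzZ)) hzZ
      have h2 := mul_mem (key _ (mul_mem (hY.2 hy) hb) hyb1 hyb) (inv_mem (key b hb hb1 hbY))
      rw [mul_inv_cancel_right] at h2
      have h3 : y ∈ cj g K ⊓ cj g B := ⟨hy, h2⟩
      rw [← cj_inf, h.inf, mem_cj, mem_bot] at h3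
      exact hy1 (by calc y = g * (g⁻¹ * y * g) * g⁻¹ := by group
                      _ = 1 := by rw [h3]; group)
    refine ⟨hYB ▸ hY.1, fun X hX => (hall X hX).imp id fun hXo => ?_⟩
    obtain ⟨x, hx, hx1⟩ := h.exists_ne_one hX
    exact (h.eq_of_common hX hY.1 hx (hYB ▸ hXo.2 hx) hx1).trans hYB
  · obtain ⟨X₀, hX₀⟩ := hgr
    left
    by_cases hout : ∃ Y, Out h Y
    swap
    · -- the uncovered points form `B`
      push Not at hout
      exfalso
      have hBA : B ≠ A := fun e => h.K_ne (by rw [← h.inf, inf_eq_left.2 (e ▸ h.K_le)])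
      have hle : ∀ g ∈ N, cj g B ≤ B := by
        intro g hg
        rintro _ ⟨b, hb, rfl⟩
        by_contra hnot
        replace hnot : g * b * g⁻¹ ∉ B := hnot
        have hgA : g * b * g⁻¹ ∈ A := (mem_normalizer_iff.1 (h.normA hg) b).1 (h.B_le hb)
        obtain ⟨k, hk, c, hc, e⟩ := h.decomp hgA
        have hk1 : k ≠ 1 := fun e' => hnot (by rw [e, e', one_mul]; exact hc)
        have hcov : ∃ X, Mem N K X ∧ g * b * g⁻¹ ∈ X := by
          by_cases hc1 : c = 1
          · exact ⟨K, mem_self, by rw [e, hc1, mul_one]; exact hk⟩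
          obtain ⟨b₀, hb₀, hx₀⟩ := h.graph_point hX₀ hk
          obtain ⟨g', -, -, hX, hmem⟩ := h.graph_move hX₀ hk hk1 hb₀ hx₀ hc hc1
          exact ⟨_, hX.1, e ▸ hmem⟩
        obtain ⟨X, hX, hmem⟩ := hcov
        have hb1 : b ≠ 1 := fun e' => hnot (by simp [e'])
        have hbX : b ∈ cj g⁻¹ X := mem_cj.2 (by rwa [inv_inv])
        by_cases e' : cj g⁻¹ X = K
        · rw [e'] at hbX
          have : b ∈ K ⊓ B := ⟨hbX, hb⟩
          rw [h.inf, mem_bot] at this
          exact hb1 this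
        · rcases h.le_or_disjoint (hX.cj (inv_mem hg)) e' with h1 | h1
          · exact hout _ ⟨hX.cj (inv_mem hg), h1⟩
          · have : b ∈ cj g⁻¹ X ⊓ B := ⟨hbX, hb⟩
            rw [h1, mem_bot] at this
            exact hb1 this
      rcases h.irred B h.B_le (fun g hg =>
        Subgroup.eq_of_le_of_card_ge (hle g hg) (card_cj g B).ge) with e | e
      · exact h.B_ne e
      · exact hBA e
    obtain ⟨Y₀, hY₀⟩ := hout
    set o : {X // Mem N K X} := ⟨K, mem_self⟩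
    set t := Nat.card {Y // Out h Y} with ht
    have htQ := h.card_out hY₀
    have hgc := h.card_graph hX₀
    have hqe := h.even_card h.B_le h.B_ne
    have hQe := h.even_card h.K_le h.K_ne
    have hqpos := Nat.card_pos (α := B)
    have hQpos := Nat.card_pos (α := K)
    have hqodd : Odd (Nat.card B - 1) := Nat.Even.sub_odd hqpos hqe odd_one
    have htodd : Odd t := (Nat.odd_mul.1 (htQ.symm ▸ hqodd)).1
    -- the number of conjugates
    have hv : Nat.card {X // Mem N K X} = 1 + t + (Nat.card B - 1) := by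
      rw [← hgc]
      have h1 : Nat.card {X // Mem N K X} = Nat.card (Option {Y // Out h Y} ⊕ {Y // Graph h Y}) := by
        refine (Nat.card_eq_of_bijective (Sum.elim (fun z => z.elim o fun Y => ⟨Y.1, Y.2.1⟩)
          fun Y => ⟨Y.1, Y.2.1⟩) ⟨?_, ?_⟩).symm
        · rintro ((_ | Y) | Y) ((_ | Z) | Z) e <;> have e' := congrArg Subtype.val e <;>
            simp only [o, Sum.elim_inl, Sum.elim_inr, Option.elim] at e'
          · rfl
          · exact absurd e'.symm (h.out_ne_K Z.2)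
          · exact absurd e'.symm Z.2.2.1
          · exact absurd e' (h.out_ne_K Y.2)
          · exact congrArg (fun x => Sum.inl (some x)) (Subtype.ext e')
          · exact absurd (by rw [← Z.2.2.2, ← e', inf_eq_left.2 Y.2.2]) (show (Y : Subgroup G) ≠ ⊥ from fun eb => by
              obtain ⟨y, hy, hy1⟩ := h.exists_ne_one Y.2.1
              rw [eb, mem_bot] at hy; exact hy1 hy)
          · exact absurd e' Y.2.2.1
          · exact absurd (by rw [← Y.2.2.2, e', inf_eq_left.2 Z.2.2]) (show (Z : Subgroup G) ≠ ⊥ from fun eb => by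
              obtain ⟨y, hy, hy1⟩ := h.exists_ne_one Z.2.1
              rw [eb, mem_bot] at hy; exact hy1 hy)
          · exact congrArg Sum.inr (Subtype.ext e')
        · rintro ⟨X, hX⟩
          by_cases e : X = K
          · exact ⟨Sum.inl none, Subtype.ext e.symm⟩
          rcases h.le_or_disjoint hX e with h1 | h1
          · exact ⟨Sum.inl (some ⟨X, hX, h1⟩), rfl⟩
          · exact ⟨Sum.inr ⟨X, hX, e, h1⟩, rfl⟩
      rw [h1, Nat.card_sum, Finite.card_option, ← ht, add_comm t 1]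
    have hvodd : Odd (Nat.card {X // Mem N K X}) := by
      rw [hv, show 1 + t + (Nat.card B - 1) = t + Nat.card B by omega]
      exact Odd.add_even htodd hqe
    have hout_eq : Nat.card {Y // Rel h o Y} = t := (h.card_pred o).2
    have hin_eq : Nat.card {Y // Rel h Y o} = t := (h.card_pred o).1
    by_cases hsym : ∃ Y, Rel h o Y ∧ Rel h Y o
    · exfalso
      obtain ⟨Y, hY1, hY2⟩ := hsym
      have hsub : {Z | Rel h o Z} = {Z | Rel h Z o} := by
        refine Set.eq_of_subset_of_ncard_le ?_ ?_ (Set.toFinite _)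
        · intro Z hZ
          obtain ⟨g, hg, hgK, hgY⟩ := h.out_trans ((h.rel_K Y).1 hY1) ((h.rel_K Z).1 hZ)
          have h1 := (h.rel_move hg Y o).2 hY2
          rwa [show move hg Y = Z from Subtype.ext hgY, show move hg o = o from Subtype.ext hgK] at h1
        · rw [← Nat.card_coe_set_eq, ← Nat.card_coe_set_eq]
          exact (hin_eq.trans hout_eq.symm).le
      refine Nat.not_even_iff_odd.2 hvodd (even_of_regular_odd (Rel h) h.rel_irrefl ?_ htodd
        fun X => (h.card_pred X).2)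
      rintro ⟨X, g, hg, rfl⟩ Z hXZ
      have h1 : Rel h o ((move hg).symm Z) := by
        rw [← h.rel_move hg, Equiv.apply_symm_apply]
        exact hXZ
      have h2 := (h.rel_move hg _ _).2 (show Rel h ((move hg).symm Z) o from
        (Set.ext_iff.1 hsub _).1 h1)
      rwa [Equiv.apply_symm_apply] at h2
    -- no mutual pair: the predecessors of `K` are the graphs
    push Not at hsym
    have hpred : ∀ Z, Rel h Z o → Graph h (Z : Subgroup G) := by
      intro Z hZ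
      refine ⟨Z.2, fun e => h.rel_irrefl o (by rwa [show Z = o from Subtype.ext e] at hZ), ?_⟩
      exact (h.le_or_disjoint Z.2 fun e => h.rel_irrefl o
        (by rwa [show Z = o from Subtype.ext e] at hZ)).resolve_left fun hh =>
          hsym Z ((h.rel_K Z).2 ⟨Z.2, hh⟩) hZ
    obtain ⟨Z₀, hZ₀⟩ : ∃ Z, Rel h Z o := by
      by_contra hno
      push Not at hno
      haveI : IsEmpty {Y // Rel h Y o} := ⟨fun Y => hno _ Y.2⟩
      rw [Nat.card_of_isEmpty] at hin_eq
      exact Nat.not_even_iff_odd.2 htodd (hin_eq ▸ ⟨0, rfl⟩)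
    have hgrpred : ∀ Z : {X // Mem N K X}, Graph h (Z : Subgroup G) → Rel h Z o := by
      intro Z hZ
      obtain ⟨g, hg, hgK, hgZ⟩ := h.graph_trans (hpred _ hZ₀) hZ
      have h1 := (h.rel_move hg Z₀ o).2 hZ₀
      rwa [show move hg Z₀ = Z from Subtype.ext hgZ, show move hg o = o from Subtype.ext hgK] at h1
    have htq : t = Nat.card B - 1 := by
      rw [← hgc, ← hin_eq]
      exact Nat.card_congr
        { toFun := fun Z => ⟨Z.1.1, hpred _ Z.2⟩
          invFun := fun Z => ⟨⟨Z.1, Z.2.1⟩, hgrpred _ Z.2⟩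
          left_inv := fun _ => rfl
          right_inv := fun _ => rfl }
    have hK2 : Nat.card K = 2 := by
      rw [← htq] at htQ
      have h1 := Nat.eq_of_mul_eq_mul_left htodd.pos (htQ.trans (mul_one t).symm)
      omega
    refine h.card_le_eight hK2 ?_ ?_
    · intro a ha ha1
      obtain ⟨k, hk, b, hb, rfl⟩ := h.decomp ha
      by_cases hb1 : b = 1
      · exact ⟨o, by rw [hb1, mul_one]; exact hk⟩
      by_cases hk1 : k = 1
      · obtain ⟨Y, hY, hbY⟩ := h.out_cover hY₀ hb hb1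
        exact ⟨⟨Y, hY.1⟩, by rw [hk1, one_mul]; exact hbY⟩
      obtain ⟨b₀, hb₀, hx₀⟩ := h.graph_point hX₀ hk
      obtain ⟨g, -, -, hX, hmem⟩ := h.graph_move hX₀ hk hk1 hb₀ hx₀ hb hb1
      exact ⟨⟨_, hX.1⟩, hmem⟩
    · rintro ⟨X, g, hg, rfl⟩ Z hne
      obtain ⟨W, rfl⟩ := (move hg).surjective Z
      rw [show (⟨cj g K, g, hg, rfl⟩ : {X // Mem N K X}) = move hg o from rfl,
        h.rel_move hg, h.rel_move hg]
      refine ⟨fun h1 h2 => hsym W h1 h2, fun h1 => ?_⟩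
      by_contra h2
      have hWo : (W : Subgroup G) ≠ K := fun e => hne (by
        rw [show W = o from Subtype.ext e]; rfl)
      refine h1 (hgrpred W ⟨W.2, hWo, (h.le_or_disjoint W.2 hWo).resolve_left fun hh =>
        h2 ((h.rel_K W).2 ⟨W.2, hh⟩)⟩)

end CfsgLib.DisjointKernels
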